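import Mathlib
import Groth.Prelude.Def_CGrpSh
import Groth.Prelude.Def_W4c1extbt15Mult
import Groth.Agent.Lib.Helper8.CGrp.Loc

/-!
# Lifting points along an epimorphism of sheaves of points, sieve form (helper8)

`liftSieve p x` (arrows `f` into `T` such that `f ≫ x` lifts through `p`) is covering when
`ptsMap K p` is an epimorphism; finite families; `hom_ext_of_mem` (points of a representable
agreeing on a covering sieve are equal); `tuple_comp`; S13634.
-/

set_option autoImplicit false

universe u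

open CategoryTheory CategoryTheory.Limits AlgebraicGeometry Opposite MonObj MonoidalCategory
  CartesianMonoidalCategory

namespace Groth.Agent.H8.CGrp

variable {S : Scheme.{u}} (K : Precoverage Scheme.{u}) [(QuotSh.J K S).Subcanonical]
variable {G H : Over S} [GrpObj G] [IsCommMonObj G] [GrpObj H] [IsCommMonObj H]

/-- arrows into `T` along which the point `x` of `H` lifts through `p : G ⟶ H` -/
def liftSieve (p : G ⟶ H) {T : Over S} (x : T ⟶ H) : Sieve T where
  arrows T' f := ∃ y : T' ⟶ G, y ≫ p = f ≫ x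
  downward_closed := by
    rintro T' T'' f ⟨y, hy⟩ g
    exact ⟨g ≫ y, by rw [Category.assoc, hy, Category.assoc]⟩

theorem liftSieve_mem (p : G ⟶ H) [IsMonHom p] (hepi : Epi (CGrpSh.ptsMap K p)) {T : Over S}
    (x : T ⟶ H) : liftSieve p x ∈ QuotSh.J K S T := by
  haveI : Sheaf.IsLocallySurjective (CGrpSh.ptsMap K p) :=
    (Sheaf.isLocallySurjective_iff_epi' (A := AddCommGrpCat.{u+1}) _).mpr hepi
  let s : ToType ((CGrpSh.pts K H).obj.obj (Opposite.op T)) := ⟨Additive.ofMul x⟩
  have hmem := Presheaf.imageSieve_mem (QuotSh.J K S) (CGrpSh.ptsMap K p).hom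
    (U := Opposite.op T) s
  refine (QuotSh.J K S).superset_covering ?_ hmem
  intro T' f hf
  obtain ⟨y, hy⟩ := hf
  refine ⟨y.down.toMul, ?_⟩
  exact congrArg (fun z => z.down.toMul) hy

omit [GrpObj H] [IsCommMonObj H] in
theorem hom_ext_of_mem {T : Over S} (R : Sieve T) (hR : R ∈ QuotSh.J K S T) (a b : T ⟶ H)
    (h : ∀ ⦃T' : Over S⦄ (f : T' ⟶ T), R f → f ≫ a = f ≫ b) : a = b := by
  have hsh := GrothendieckTopology.Subcanonical.isSheaf_of_isRepresentable
    (J := QuotSh.J K S) (yoneda.obj H)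
  exact (hsh R hR).isSeparatedFor.ext fun T' f hf => h f hf

theorem liftSieve_finset_mem (p : G ⟶ H) [IsMonHom p] (hepi : Epi (CGrpSh.ptsMap K p))
    {T : Over S} {n : ℕ} (x : Fin n → (T ⟶ H)) (s : Finset (Fin n)) :
    ∃ R ∈ QuotSh.J K S T, ∀ ⦃T' : Over S⦄ (f : T' ⟶ T), R f →
      ∀ l ∈ s, ∃ y : T' ⟶ G, y ≫ p = f ≫ x l := by
  classical
  induction s using Finset.induction_on with
  | empty =>
    exact ⟨⊤, (QuotSh.J K S).top_mem T, fun _ _ _ l hl => absurd hl (Finset.notMem_empty l)⟩
  | insert a s ha ih =>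
    obtain ⟨R, hR, h⟩ := ih
    refine ⟨R ⊓ liftSieve p (x a),
      (QuotSh.J K S).intersection_covering hR (liftSieve_mem K p hepi (x a)), ?_⟩
    intro T' f hf l hl
    rcases Finset.mem_insert.mp hl with rfl | hl
    · exact hf.2
    · exact h f hf.1 l hl

theorem tuple_comp {C : Type*} [Category C] [CartesianMonoidalCategory C] [BraidedCategory C]
    {M T T' : C} (f : T' ⟶ T) :
    ∀ {n : ℕ} (x : Fin n → (T ⟶ M)), f ≫ MultSch.tuple x = MultSch.tuple (fun l => f ≫ x l)
  | 0, _ => toUnit_unique _ _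
  | n + 1, x => by
    show f ≫ lift (x 0) (MultSch.tuple fun i => x i.succ) =
      lift (f ≫ x 0) (MultSch.tuple fun i => f ≫ x i.succ)
    rw [comp_lift, tuple_comp f]

/-- **S13634** (multilinearity is not needed). -/
theorem alt_of_epi {M M'' : Over S} [GrpObj M] [IsCommMonObj M] [GrpObj M''] [IsCommMonObj M'']
    (π : M ⟶ M'') [IsMonHom π] (hπ : Epi (CGrpSh.ptsMap K π))
    {r : ℕ} (φ : MultSch.pow M'' r ⟶ H)
    (halt : ∀ (T : Over S) (x : Fin r → (T ⟶ M)) (i j : Fin r), i ≠ j → x i = x j →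
      MultSch.tuple (fun l => x l ≫ π) ≫ φ = 1) :
    MultSch.IsAlternating φ := by
  classical
  intro T x i j hij hx
  obtain ⟨R, hR, h⟩ := liftSieve_finset_mem K π hπ x Finset.univ
  refine hom_ext_of_mem K R hR _ _ fun T' f hf => ?_
  choose y hy using fun l => h f hf l (Finset.mem_univ l)
  have hy' : ∀ l, Function.update y j (y i) l ≫ π = f ≫ x l := by
    intro l
    by_cases hl : l = j
    · rw [hl, Function.update_self, hy i, hx]
    · rw [Function.update_of_ne hl, hy l]
  have h1 := halt T' (Function.update y j (y i)) i j hij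
    (by rw [Function.update_self, Function.update_of_ne hij])
  rw [MonObj.comp_one, ← Category.assoc, tuple_comp, ← h1]
  congr 2
  funext l
  exact (hy' l).symm

end Groth.Agent.H8.CGrp
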