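import Mathlib
import Groth.Prelude.Def_CGrpSh
import Groth.Prelude.Def_W4c1extbt15Mult
import Groth.Agent.Lib.Helper8.CGrp.Alt

/-!
# Descent of morphisms along maps which are locally surjective on points (helper8)

* `liftSv q x`: sieve of arrows along which the point `x` lifts through `q` (no group structure);
* `exists_desc`: a morphism `ψ : W ⟶ N` constant on the fibres of `q : W ⟶ W''` (on points), where
  `q` is locally surjective on points for a subcanonical topology, descends to `W''`;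
  `desc_unique`: such `q` is an epimorphism;
* `imageSieve_mem_of_exact`: in an exact sequence of abelian sheaves a section killed by `g` is
  locally in the image of `f`; `kerSieve_mem`: the same for sequences of group schemes.
-/

set_option autoImplicit false

universe u

open CategoryTheory CategoryTheory.Limits AlgebraicGeometry Opposite MonObj MonoidalCategory
  CartesianMonoidalCategory

namespace Groth.Agent.H8.CGrp

variable {S : Scheme.{u}} (K : Precoverage Scheme.{u})

/-- arrows into `T` along which the point `x` of `W''` lifts through `q : W ⟶ W''` -/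
def liftSv {W W'' : Over S} (q : W ⟶ W'') {T : Over S} (x : T ⟶ W'') : Sieve T where
  arrows T' f := ∃ y : T' ⟶ W, y ≫ q = f ≫ x
  downward_closed := by
    rintro T' T'' f ⟨y, hy⟩ g
    exact ⟨g ≫ y, by rw [Category.assoc, hy, Category.assoc]⟩

theorem liftSv_mem_of_id {W W'' : Over S} (q : W ⟶ W'')
    (hq : liftSv q (𝟙 W'') ∈ QuotSh.J K S W'') {T : Over S} (x : T ⟶ W'') :
    liftSv q x ∈ QuotSh.J K S T := by
  refine (QuotSh.J K S).superset_covering ?_ ((QuotSh.J K S).pullback_stable x hq)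
  rintro T' f ⟨y, hy⟩
  exact ⟨y, by rw [hy, Category.comp_id]⟩

variable [(QuotSh.J K S).Subcanonical]

theorem exists_desc {W W'' N : Over S} (q : W ⟶ W'')
    (hq : liftSv q (𝟙 W'') ∈ QuotSh.J K S W'')
    (ψ : W ⟶ N) (hψ : ∀ ⦃T : Over S⦄ (x y : T ⟶ W), x ≫ q = y ≫ q → x ≫ ψ = y ≫ ψ) :
    ∃ ψ' : W'' ⟶ N, q ≫ ψ' = ψ := by
  have hsh := GrothendieckTopology.Subcanonical.isSheaf_of_isRepresentable
    (J := QuotSh.J K S) (yoneda.obj N)
  obtain ⟨R, hRdef⟩ : ∃ R, R = liftSv q (𝟙 W'') := ⟨_, rfl⟩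
  have hR : R ∈ QuotSh.J K S W'' := hRdef ▸ hq
  have hRq : ∀ ⦃T' : Over S⦄ (f : T' ⟶ W''), R f → ∃ y : T' ⟶ W, y ≫ q = f := by
    intro T' f hf
    rw [hRdef] at hf
    obtain ⟨y, hy⟩ := hf
    exact ⟨y, by rw [hy, Category.comp_id]⟩
  let fam : Presieve.FamilyOfElements (yoneda.obj N) R.arrows :=
    fun T' f hf => (hRq f hf).choose ≫ ψ
  have hfam : fam.Compatible := by
    intro Y₁ Y₂ Z g₁ g₂ f₁ f₂ h₁ h₂ hcomm
    show g₁ ≫ ((hRq f₁ h₁).choose ≫ ψ) = g₂ ≫ ((hRq f₂ h₂).choose ≫ ψ)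
    rw [← Category.assoc, ← Category.assoc]
    apply hψ
    rw [Category.assoc, Category.assoc, (hRq f₁ h₁).choose_spec, (hRq f₂ h₂).choose_spec, hcomm]
  refine ⟨(hsh R hR).amalgamate fam hfam, ?_⟩
  have hqR : R q := by
    rw [hRdef]
    exact ⟨𝟙 W, by rw [Category.id_comp, Category.comp_id]⟩
  have h1 := (hsh R hR).valid_glue hfam q hqR
  change q ≫ _ = (hRq q hqR).choose ≫ ψ at h1
  rw [h1]
  have := hψ (hRq q hqR).choose (𝟙 W) (by rw [(hRq q hqR).choose_spec, Category.id_comp])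
  rw [this, Category.id_comp]

theorem desc_unique {W W'' N : Over S} (q : W ⟶ W'')
    (hq : liftSv q (𝟙 W'') ∈ QuotSh.J K S W'') (a b : W'' ⟶ N) (h : q ≫ a = q ≫ b) : a = b := by
  refine hom_ext_of_mem K _ hq a b ?_
  rintro T' f ⟨y, hy⟩
  rw [Category.comp_id] at hy
  rw [← hy, Category.assoc, Category.assoc, h]

/-- evaluation of abelian sheaves at an object -/
noncomputable abbrev evalT (T : Over S) : BigSite.Ab K S ⥤ AddCommGrpCat.{u+1} :=
  sheafToPresheaf (QuotSh.J K S) AddCommGrpCat.{u+1} ⋙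
    (evaluation (Over S)ᵒᵖ AddCommGrpCat.{u+1}).obj (op T)

omit [(QuotSh.J K S).Subcanonical] in
/-- In an exact sequence of abelian sheaves, a section killed by `g` is locally in the image of
`f`. -/
theorem imageSieve_mem_of_exact (Sc : ShortComplex (BigSite.Ab K S)) (hS : Sc.Exact) {T : Over S}
    (s : ToType (Sc.X₂.obj.obj (op T))) (hs : Sc.g.hom.app (op T) s = 0) :
    Presheaf.imageSieve Sc.f.hom s ∈ QuotSh.J K S T := by
  have hS' : (ShortComplex.mk (kernel.ι Sc.g) Sc.g (kernel.condition _)).Exact :=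
    ShortComplex.exact_of_f_is_kernel _ (kernelIsKernel Sc.g)
  have hmono : Mono (ShortComplex.mk (kernel.ι Sc.g) Sc.g (kernel.condition _)).f := by
    show Mono (kernel.ι Sc.g)
    infer_instance
  have hE : ((ShortComplex.mk (kernel.ι Sc.g) Sc.g (kernel.condition _)).map (evalT K T)).Exact :=
    hS'.map_of_mono_of_preservesKernel (evalT K T) hmono inferInstance
  have hs' : ((ShortComplex.mk (kernel.ι Sc.g) Sc.g (kernel.condition _)).map (evalT K T)).g s = 0 :=
    hs
  obtain ⟨k, hk⟩ := (ShortComplex.ab_exact_iff _).mp hE s hs'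
  haveI : Epi (kernel.lift Sc.g Sc.f Sc.zero) := hS.epi_kernelLift
  haveI : Sheaf.IsLocallySurjective (kernel.lift Sc.g Sc.f Sc.zero) :=
    (Sheaf.isLocallySurjective_iff_epi' (A := AddCommGrpCat.{u+1}) _).mpr inferInstance
  have hmem := Presheaf.imageSieve_mem (QuotSh.J K S) (kernel.lift Sc.g Sc.f Sc.zero).hom
    (U := op T) k
  refine (QuotSh.J K S).superset_covering ?_ hmem
  rintro T' f ⟨t, ht⟩
  refine ⟨t, ?_⟩
  have e1 : (kernel.ι Sc.g).hom.app (op T') ((kernel.lift Sc.g Sc.f Sc.zero).hom.app (op T') t) =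
      Sc.f.hom.app (op T') t := by
    have := congrArg (fun φ : Sc.X₁ ⟶ Sc.X₂ => φ.hom.app (op T') t)
      (kernel.lift_ι Sc.g Sc.f Sc.zero)
    exact this
  have e2 : (kernel.ι Sc.g).hom.app (op T') ((kernel Sc.g).obj.map f.op k) =
      Sc.X₂.obj.map f.op ((kernel.ι Sc.g).hom.app (op T) k) :=
    NatTrans.naturality_apply (kernel.ι Sc.g).hom f.op k
  rw [← e1, ht, e2]
  exact congrArg _ hk

/-- the kernel of `π` is locally the image of `j` when `M' → M → M''` is exact as sheaves -/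
theorem kerSieve_mem {M' M M'' : Over S} [GrpObj M'] [IsCommMonObj M'] [GrpObj M] [IsCommMonObj M]
    [GrpObj M''] [IsCommMonObj M''] (j : M' ⟶ M) (π : M ⟶ M'') [IsMonHom j] [IsMonHom π]
    (w : j ≫ π = 1) (hex : (CGrpSh.seq K j π w).Exact) {T : Over S} (d : T ⟶ M)
    (hd : d ≫ π = 1) : liftSv j d ∈ QuotSh.J K S T := by
  let s : ToType ((CGrpSh.pts K M).obj.obj (op T)) := ⟨Additive.ofMul d⟩
  have hs : (CGrpSh.seq K j π w).g.hom.app (op T) s = 0 := by
    refine ULift.ext _ _ ?_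
    change Additive.ofMul (d ≫ π) = 0
    rw [hd]
    rfl
  have hmem := imageSieve_mem_of_exact K (CGrpSh.seq K j π w) hex s hs
  refine (QuotSh.J K S).superset_covering ?_ hmem
  rintro T' f ⟨t, ht⟩
  refine ⟨t.down.toMul, ?_⟩
  exact congrArg (fun z => z.down.toMul) ht

end Groth.Agent.H8.CGrp
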