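import Mathlib
import Groth.Prelude.Def_CGrpSh
import Groth.Prelude.Def_W4c1extbt15Mult
import Groth.Agent.Lib.Helper8.CGrp.Desc

/-!
# Alternating multilinear maps factor through quotients (helper8)

`powMap f n : pow M n ⟶ pow M'' n`, coordinates `coord M n l`, `tuple_powMap`, `tuple_coord`,
`eq_tuple_coord`, local surjectivity of `powMap π n` for a sheaf epimorphism `π`, and `alt_factor`
(S13635).
-/

set_option autoImplicit false

universe u w

open CategoryTheory CategoryTheory.Limits AlgebraicGeometry Opposite MonObj MonoidalCategory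
  CartesianMonoidalCategory

namespace Groth.Agent.H8.CGrp

section Pow

variable {C : Type*} [Category C] [CartesianMonoidalCategory C] [BraidedCategory C]

/-- the `n`-fold power of a morphism -/
def powMap {M M'' : C} (f : M ⟶ M'') : (n : ℕ) → (MultSch.pow M n ⟶ MultSch.pow M'' n)
  | 0 => 𝟙 _
  | n + 1 => f ⊗ₘ powMap f n

theorem tuple_powMap {M M'' T : C} (f : M ⟶ M'') :
    ∀ {n : ℕ} (x : Fin n → (T ⟶ M)),
      MultSch.tuple x ≫ powMap f n = MultSch.tuple (fun l => x l ≫ f)
  | 0, _ => toUnit_unique _ _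
  | n + 1, x => by
    show lift (x 0) (MultSch.tuple fun i => x i.succ) ≫ (f ⊗ₘ powMap f n) =
      lift (x 0 ≫ f) (MultSch.tuple fun i => x i.succ ≫ f)
    rw [lift_map, tuple_powMap f]

/-- the coordinates of the `n`-fold power -/
def coord (M : C) : (n : ℕ) → Fin n → (MultSch.pow M n ⟶ M)
  | 0 => fun i => i.elim0
  | n + 1 => Fin.cases (fst M (MultSch.pow M n)) (fun i => snd M (MultSch.pow M n) ≫ coord M n i)

theorem coord_zero (M : C) (n : ℕ) : coord M (n + 1) 0 = fst M (MultSch.pow M n) := rfl

theorem coord_succ (M : C) (n : ℕ) (i : Fin n) :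
    coord M (n + 1) i.succ = snd M (MultSch.pow M n) ≫ coord M n i := by
  simp only [coord, Fin.cases_succ]
  rfl

theorem tuple_coord {M T : C} :
    ∀ {n : ℕ} (x : Fin n → (T ⟶ M)) (l : Fin n), MultSch.tuple x ≫ coord M n l = x l
  | 0, _, l => l.elim0
  | n + 1, x, l => by
    refine Fin.cases ?_ (fun i => ?_) l
    · show lift (x 0) _ ≫ fst _ _ = x 0
      rw [lift_fst]
    · rw [coord_succ]
      show lift (x 0) (MultSch.tuple fun i => x i.succ) ≫ (snd _ _ ≫ coord M n i) = x i.succ
      rw [lift_snd_assoc, tuple_coord]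

theorem eq_tuple_coord {M T : C} :
    ∀ {n : ℕ} (y : T ⟶ MultSch.pow M n), y = MultSch.tuple (fun l => y ≫ coord M n l)
  | 0, y => toUnit_unique _ _
  | n + 1, y => by
    show y = lift (y ≫ coord M (n + 1) 0) (MultSch.tuple fun i => y ≫ coord M (n + 1) i.succ)
    apply CartesianMonoidalCategory.hom_ext
    · rw [lift_fst, coord_zero]
      rfl
    · rw [lift_snd]
      refine (eq_tuple_coord (y ≫ snd _ _)).trans ?_
      congr 1
      funext i
      rw [Category.assoc, coord_succ]
      rfl

theorem tuple_coord_eq_id (M : C) (n : ℕ) : MultSch.tuple (coord M n) = 𝟙 (MultSch.pow M n) := by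
  have := eq_tuple_coord (𝟙 (MultSch.pow M n))
  simp only [Category.id_comp] at this
  exact this.symm

end Pow

variable {S : Scheme.{u}} (K : Precoverage Scheme.{u}) [(QuotSh.J K S).Subcanonical]

theorem liftSv_powMap_mem {M M'' : Over S} [GrpObj M] [IsCommMonObj M] [GrpObj M'']
    [IsCommMonObj M''] (π : M ⟶ M'') [IsMonHom π] (hepi : Epi (CGrpSh.ptsMap K π)) (n : ℕ) :
    liftSv (powMap π n) (𝟙 (MultSch.pow M'' n)) ∈ QuotSh.J K S (MultSch.pow M'' n) := by
  classical
  obtain ⟨R, hR, h⟩ := liftSieve_finset_mem K π hepi (coord M'' n) Finset.univ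
  refine (QuotSh.J K S).superset_covering ?_ hR
  intro T' f hf
  choose y hy using fun l => h f hf l (Finset.mem_univ l)
  refine ⟨MultSch.tuple y, ?_⟩
  rw [tuple_powMap, Category.comp_id]
  refine Eq.trans ?_ (eq_tuple_coord f).symm
  congr 1
  funext l
  exact hy l

/-- **S13635** for any subcanonical topology (the module structure on `M₁` is not needed). -/
theorem alt_factor {R : Type w} [CommRing R] {M₁ M₂ M₃ N : Over S}
    [GrpObj M₁] [IsCommMonObj M₁] [GrpObj M₂] [IsCommMonObj M₂] [GrpObj M₃] [IsCommMonObj M₃]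
    [GrpObj N] [IsCommMonObj N]
    (ρ₂ : MultSch.RMod R M₂) (ρ₃ : MultSch.RMod R M₃) (ρN : MultSch.RMod R N)
    (j : M₁ ⟶ M₂) (π : M₂ ⟶ M₃) [IsMonHom j] [IsMonHom π]
    (hπ : ∀ a : R, π ≫ ρ₃.act a = ρ₂.act a ≫ π)
    (w : j ≫ π = 1) (hex : (CGrpSh.seq K j π w).Exact)
    (hepi : Epi (CGrpSh.ptsMap K π))
    {n : ℕ} (hn : 1 ≤ n) (φ : MultSch.pow M₂ n ⟶ N)
    (hmult : MultSch.IsMultilinear φ) (hlin : MultSch.IsRLinear ρ₂ ρN φ)
    (halt : MultSch.IsAlternating φ)
    (hvan : ∀ (T : Over S) (y : T ⟶ M₁) (x : Fin n → (T ⟶ M₂)), x ⟨0, hn⟩ = y ≫ j →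
      MultSch.tuple x ≫ φ = 1) :
    ∃ φ' : MultSch.pow M₃ n ⟶ N,
      (∀ (T : Over S) (x : Fin n → (T ⟶ M₂)),
        MultSch.tuple x ≫ φ = MultSch.tuple (fun l => x l ≫ π) ≫ φ') ∧
      MultSch.IsMultilinear φ' ∧ MultSch.IsRLinear ρ₃ ρN φ' ∧ MultSch.IsAlternating φ' ∧
      ∀ φ'' : MultSch.pow M₃ n ⟶ N,
        (∀ (T : Over S) (x : Fin n → (T ⟶ M₂)),
          MultSch.tuple x ≫ φ = MultSch.tuple (fun l => x l ≫ π) ≫ φ'') → φ'' = φ' := by
  classical
  -- a point in the image of `j` in any coordinate kills `φ`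
  have hker0 : ∀ (T : Over S) (x : Fin n → (T ⟶ M₂)) (i : Fin n) (d : T ⟶ M₂),
      (∀ x' : Fin n → (T ⟶ M₂), x' ⟨0, hn⟩ = d → MultSch.tuple x' ≫ φ = 1) →
      MultSch.tuple (Function.update x i d) ≫ φ = 1 := by
    intro T x i d hd
    by_cases hi : i = ⟨0, hn⟩
    · exact hd _ (by rw [hi, Function.update_self])
    · obtain ⟨i0, hi0⟩ : ∃ i0 : Fin n, i0 = ⟨0, hn⟩ := ⟨_, rfl⟩
      rw [← hi0] at hd hi
      have hne : i0 ≠ i := fun h => hi h.symm
      obtain ⟨a, ha⟩ : ∃ a, a = x i0 := ⟨_, rfl⟩
      have hY1 : MultSch.tuple (Function.update (Function.update x i0 (a * d)) i (a * d)) ≫ φ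
          = 1 :=
        halt T _ i0 i hne
          (by rw [Function.update_self, Function.update_of_ne hne, Function.update_self])
      have hY2 : MultSch.tuple (Function.update (Function.update x i0 (a * d)) i (a * d)) ≫ φ =
          (MultSch.tuple (Function.update (Function.update x i0 a) i (a * d)) ≫ φ) *
          (MultSch.tuple (Function.update (Function.update x i0 d) i (a * d)) ≫ φ) := by
        rw [Function.update_comm hne (a * d) (a * d) x, Function.update_comm hne a (a * d) x,
          Function.update_comm hne d (a * d) x]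
        exact hmult T _ i0 a d
      have hY3 : MultSch.tuple (Function.update (Function.update x i0 d) i (a * d)) ≫ φ = 1 :=
        hd _ (by rw [Function.update_of_ne hne, Function.update_self])
      have hY4 : MultSch.tuple (Function.update (Function.update x i0 a) i (a * d)) ≫ φ =
          (MultSch.tuple (Function.update (Function.update x i0 a) i a) ≫ φ) *
          (MultSch.tuple (Function.update (Function.update x i0 a) i d) ≫ φ) :=
        hmult T _ i a d
      have hY5 : MultSch.tuple (Function.update (Function.update x i0 a) i a) ≫ φ = 1 :=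
        halt T _ i0 i hne
          (by rw [Function.update_self, Function.update_of_ne hne, Function.update_self])
      have hY6 : Function.update (Function.update x i0 a) i d = Function.update x i d := by
        rw [ha, Function.update_eq_self]
      rw [hY2, hY3, hY4, hY5, hY6, _root_.one_mul, _root_.mul_one] at hY1
      exact hY1
  -- a point in the kernel of `π` in any coordinate kills `φ`
  have hker1 : ∀ (T : Over S) (x : Fin n → (T ⟶ M₂)) (i : Fin n) (d : T ⟶ M₂),
      d ≫ π = 1 → MultSch.tuple (Function.update x i d) ≫ φ = 1 := by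
    intro T x i d hd
    refine hom_ext_of_mem K _ (kerSieve_mem K j π w hex d hd) _ _ ?_
    rintro T' f ⟨z, hz⟩
    rw [MonObj.comp_one, ← Category.assoc, tuple_comp]
    have hfun : (fun l => f ≫ Function.update x i d l) =
        Function.update (fun l => f ≫ x l) i (z ≫ j) := by
      funext l
      rw [hz]
      exact Function.apply_update (fun _ (y : T ⟶ M₂) => f ≫ y) x i d l
    rw [hfun]
    exact hker0 T' _ i (z ≫ j) (fun x' hx' => hvan T' z x' hx')
  -- changing one coordinate inside its fibre
  have hstep : ∀ (T : Over S) (x : Fin n → (T ⟶ M₂)) (i : Fin n) (y : T ⟶ M₂),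
      y ≫ π = x i ≫ π → MultSch.tuple (Function.update x i y) ≫ φ = MultSch.tuple x ≫ φ := by
    intro T x i y hy
    have hd : ((x i)⁻¹ * y) ≫ π = 1 := by
      rw [MonObj.mul_comp _ _ π, hy, ← MonObj.mul_comp _ _ π, inv_mul_cancel, MonObj.one_comp π]
    have hy' : Function.update x i y = Function.update x i (x i * ((x i)⁻¹ * y)) := by
      rw [mul_inv_cancel_left]
    rw [hy', hmult T x i, hker1 T x i _ hd, _root_.mul_one, Function.update_eq_self]
  have hfib : ∀ (T : Over S) (s : Finset (Fin n)) (x x' : Fin n → (T ⟶ M₂)),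
      (∀ l, x l ≫ π = x' l ≫ π) → (∀ l, l ∉ s → x l = x' l) →
      MultSch.tuple x ≫ φ = MultSch.tuple x' ≫ φ := by
    intro T s
    induction s using Finset.induction_on with
    | empty =>
      intro x x' _ h
      have : x = x' := funext fun l => h l (Finset.notMem_empty l)
      rw [this]
    | insert a s ha ih =>
      intro x x' h1 h2
      have e1 : MultSch.tuple (Function.update x a (x' a)) ≫ φ = MultSch.tuple x ≫ φ :=
        hstep T x a (x' a) (h1 a).symm
      rw [← e1]
      apply ih
      · intro l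
        by_cases hl : l = a
        · rw [hl, Function.update_self]
        · rw [Function.update_of_ne hl]
          exact h1 l
      · intro l hl
        by_cases hla : l = a
        · rw [hla, Function.update_self]
        · rw [Function.update_of_ne hla]
          exact h2 l (fun hmem => (Finset.mem_insert.mp hmem).elim hla hl)
  have hψ : ∀ ⦃T : Over S⦄ (y y' : T ⟶ MultSch.pow M₂ n),
      y ≫ powMap π n = y' ≫ powMap π n → y ≫ φ = y' ≫ φ := by
    intro T y y' h
    obtain ⟨x, rfl⟩ : ∃ x, y = MultSch.tuple x := ⟨_, eq_tuple_coord y⟩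
    obtain ⟨x', rfl⟩ : ∃ x', y' = MultSch.tuple x' := ⟨_, eq_tuple_coord y'⟩
    rw [tuple_powMap, tuple_powMap] at h
    have h1 : ∀ l, x l ≫ π = x' l ≫ π := by
      intro l
      have := congrArg (fun t => t ≫ coord M₃ n l) h
      simpa only [tuple_coord] using this
    exact hfib T Finset.univ x x' h1 (fun l hl => absurd (Finset.mem_univ l) hl)
  obtain ⟨φ', hφ'⟩ := exists_desc K (powMap π n) (liftSv_powMap_mem K π hepi n) φ hψ
  have hfac : ∀ (T : Over S) (x : Fin n → (T ⟶ M₂)),
      MultSch.tuple x ≫ φ = MultSch.tuple (fun l => x l ≫ π) ≫ φ' := by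
    intro T x
    rw [← hφ', ← Category.assoc, tuple_powMap]
  refine ⟨φ', hfac, ?_, ?_, ?_, ?_⟩
  · intro T x i y z
    obtain ⟨R, hR, h⟩ := liftSieve_finset_mem K π hepi x Finset.univ
    refine hom_ext_of_mem K (R ⊓ (liftSieve π y ⊓ liftSieve π z))
      ((QuotSh.J K S).intersection_covering hR ((QuotSh.J K S).intersection_covering
        (liftSieve_mem K π hepi y) (liftSieve_mem K π hepi z))) _ _ ?_
    rintro T' f ⟨hf, ⟨y', hy'⟩, ⟨z', hz'⟩⟩
    choose x' hx' using fun l => h f hf l (Finset.mem_univ l)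
    have e : ∀ (v : T ⟶ M₃) (v' : T' ⟶ M₂), v' ≫ π = f ≫ v →
        f ≫ MultSch.tuple (Function.update x i v) ≫ φ' =
          MultSch.tuple (Function.update x' i v') ≫ φ := by
      intro v v' hv
      rw [← Category.assoc, tuple_comp, hfac]
      congr 2
      funext l
      by_cases hl : l = i
      · rw [hl, Function.update_self, Function.update_self, hv]
      · rw [Function.update_of_ne hl, Function.update_of_ne hl, hx' l]
    rw [MonObj.comp_mul, e (y * z) (y' * z')
      (by rw [MonObj.mul_comp _ _ π, hy', hz', MonObj.comp_mul]), e y y' hy', e z z' hz']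
    exact hmult T' x' i y' z'
  · intro T x i a
    obtain ⟨R, hR, h⟩ := liftSieve_finset_mem K π hepi x Finset.univ
    refine hom_ext_of_mem K R hR _ _ ?_
    intro T' f hf
    choose x' hx' using fun l => h f hf l (Finset.mem_univ l)
    have e1 : f ≫ MultSch.tuple (Function.update x i (x i ≫ ρ₃.act a)) =
        MultSch.tuple (fun l => Function.update x' i (x' i ≫ ρ₂.act a) l ≫ π) := by
      rw [tuple_comp]
      congr 1
      funext l
      by_cases hl : l = i
      · rw [hl, Function.update_self, Function.update_self, ← Category.assoc, ← hx' i,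
          Category.assoc, hπ a, Category.assoc]
      · rw [Function.update_of_ne hl, Function.update_of_ne hl, hx' l]
    have e2 : f ≫ MultSch.tuple x = MultSch.tuple (fun l => x' l ≫ π) := by
      rw [tuple_comp]
      congr 1
      funext l
      exact (hx' l).symm
    have lhs : f ≫ (MultSch.tuple (Function.update x i (x i ≫ ρ₃.act a)) ≫ φ') =
        (MultSch.tuple x' ≫ φ) ≫ ρN.act a := by
      rw [← Category.assoc, e1, ← hfac, hlin T' x' i a]
    have rhs : f ≫ ((MultSch.tuple x ≫ φ') ≫ ρN.act a) = (MultSch.tuple x' ≫ φ) ≫ ρN.act a := by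
      rw [← Category.assoc, ← Category.assoc, e2, ← hfac]
    rw [lhs, rhs]
  · exact alt_of_epi K π hepi φ' (fun T x i j hij hx => by
      rw [← hfac]
      exact halt T x i j hij hx)
  · intro φ'' h
    refine desc_unique K (powMap π n) (liftSv_powMap_mem K π hepi n) φ'' φ' ?_
    rw [hφ']
    have h1 := h (MultSch.pow M₂ n) (coord M₂ n)
    rw [tuple_coord_eq_id, Category.id_comp, ← tuple_powMap, tuple_coord_eq_id,
      Category.id_comp] at h1
    exact h1.symm

end Groth.Agent.H8.CGrp
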