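import Mathlib
import Groth.Prelude.Def_CGrpSh
import Groth.Prelude.Def_TwC
import Groth.Prelude.Def_NonAbH2
import Groth.Agent.Lib.Helper8.CGrp.Desc

/-!
# Rigidity of extensions by a torsion-free constant group (helper8)

* points of the constant scheme `TwC.const S Z`: `comp_eq_toUnit_pt`, `eq_toUnit_pt_of_subsingleton`;
* `eq_one_of_forall_mul`: a morphism from a quasi-compact `P` to a constant group `Z_S` with `Z`
  torsion-free which is multiplicative on points is trivial;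
* `exists_hom_of_auto`: an automorphism (endomorphism) `φ` of the middle term of an exact sequence
  `1 → G → E → P → 1` (`E` commutative) inducing the identity on `G` and `P` is `x ↦ x · u(d(v x))`
  for a morphism `d : P ⟶ G` multiplicative on points.
-/

set_option autoImplicit false

universe u

open CategoryTheory CategoryTheory.Limits AlgebraicGeometry Opposite MonObj MonoidalCategory
  CartesianMonoidalCategory

namespace Groth.Agent.H8.ConstRig

open Groth.Agent.H8.CGrp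

section Const

variable {S : Scheme.{u}} {Z : Type u}

theorem fac_of_range {W : Scheme.{u}} (w : W ⟶ (TwC.const S Z).left) (m : Z)
    (h : ∀ v : W, w v ∈ (Sigma.ι (fun _ : Z => S) m).opensRange) :
    w = (w ≫ (TwC.const S Z).hom) ≫ Sigma.ι (fun _ : Z => S) m := by
  have hr : Set.range w ⊆ Set.range (Sigma.ι (fun _ : Z => S) m) := by
    rintro _ ⟨v, rfl⟩
    exact h v
  obtain ⟨g, hg⟩ : ∃ g : W ⟶ S, g ≫ Sigma.ι (fun _ : Z => S) m = w :=
    ⟨IsOpenImmersion.lift _ w hr, IsOpenImmersion.lift_fac _ w hr⟩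
  have h2 : w ≫ (TwC.const S Z).hom = g := by
    rw [← hg, Category.assoc]
    change g ≫ Sigma.ι (fun _ : Z => S) m ≫ Sigma.desc (fun _ : Z => 𝟙 S) = g
    rw [Sigma.ι_desc, Category.comp_id]
  rw [h2, hg]

theorem comp_eq_toUnit_pt {T : Over S} (z : T ⟶ TwC.const S Z) (m : Z)
    (h : ∀ t : T.left, z.left t ∈ (Sigma.ι (fun _ : Z => S) m).opensRange) :
    z = toUnit T ≫ TwC.pt S Z m := by
  apply Over.OverMorphism.ext
  have h1 := fac_of_range z.left m h
  have h2 : z.left ≫ (TwC.const S Z).hom = T.hom := Over.w z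
  rw [h2] at h1
  exact h1

theorem exists_mem_range {T : Over S} (z : T ⟶ TwC.const S Z) (t : T.left) :
    ∃ m : Z, z.left t ∈ (Sigma.ι (fun _ : Z => S) m).opensRange := by
  obtain ⟨m, s, hs⟩ := (sigmaOpenCover (fun _ : Z => S)).exists_eq (z.left t)
  exact ⟨m, s, hs⟩

theorem mem_range_unique (x : (TwC.const S Z).left) (m m' : Z)
    (h : x ∈ (Sigma.ι (fun _ : Z => S) m).opensRange)
    (h' : x ∈ (Sigma.ι (fun _ : Z => S) m').opensRange) : m = m' := by
  by_contra hne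
  have hdisj := disjoint_opensRange_sigmaι (fun _ : Z => S) m m' hne
  have : x ∈ ((Sigma.ι (fun _ : Z => S) m).opensRange ⊓ (Sigma.ι (fun _ : Z => S) m').opensRange) :=
    ⟨h, h'⟩
  exact hdisj.le_bot this

theorem left_toUnit_pt_mem {T : Over S} (m : Z) (t : T.left) :
    (toUnit T ≫ TwC.pt S Z m).left t ∈ (Sigma.ι (fun _ : Z => S) m).opensRange := by
  have e : (toUnit T ≫ TwC.pt S Z m).left = T.hom ≫ Sigma.ι (fun _ : Z => S) m := rfl
  rw [e, Scheme.Hom.comp_apply]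
  exact ⟨_, rfl⟩

theorem eq_toUnit_pt_of_subsingleton {T : Over S} (z : T ⟶ TwC.const S Z) (t₀ : T.left)
    (hT : ∀ t : T.left, t = t₀) : ∃ m, z = toUnit T ≫ TwC.pt S Z m := by
  obtain ⟨m, hm⟩ := exists_mem_range z t₀
  exact ⟨m, comp_eq_toUnit_pt z m (fun t => by rw [hT t]; exact hm)⟩

variable [Group Z] {G : Over S} [GrpObj G] (eG : G ≅ TwC.const S Z) (hG : TwC.IsConstGrp Z G eG)

include hG in
theorem pt_one : TwC.pt S Z 1 ≫ eG.inv = 1 := by
  have h := hG 1 1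
  rw [_root_.mul_one] at h
  exact mul_eq_left.mp h

include hG in
theorem toUnit_pt_one (T : Over S) : toUnit T ≫ TwC.pt S Z 1 ≫ eG.inv = 1 := by
  rw [pt_one eG hG, MonObj.comp_one]

include hG in
theorem toUnit_pt_mul (T : Over S) (m n : Z) :
    (toUnit T ≫ TwC.pt S Z m ≫ eG.inv) * (toUnit T ≫ TwC.pt S Z n ≫ eG.inv) =
      toUnit T ≫ TwC.pt S Z (m * n) ≫ eG.inv := by
  rw [← MonObj.comp_mul, hG]

include hG in
theorem toUnit_pt_pow (T : Over S) (m : Z) (n : ℕ) :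
    (toUnit T ≫ TwC.pt S Z m ≫ eG.inv) ^ n = toUnit T ≫ TwC.pt S Z (m ^ n) ≫ eG.inv := by
  induction n with
  | zero => rw [pow_zero, pow_zero, toUnit_pt_one eG hG]
  | succ n ih => rw [pow_succ, pow_succ, ih, toUnit_pt_mul eG hG]

include hG in
/-- A morphism from a quasi-compact `S`-scheme with a group structure to a constant group `Z_S`,
`Z` torsion-free, which is multiplicative on points, is trivial. -/
theorem eq_one_of_forall_mul (hZ : ∀ z : Z, IsOfFinOrder z → z = 1)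
    {P : Over S} [GrpObj P] [CompactSpace P.left]
    (d : P ⟶ G) (hd : ∀ ⦃T : Over S⦄ (x y : T ⟶ P), (x * y) ≫ d = (x ≫ d) * (y ≫ d)) :
    d = 1 := by
  classical
  obtain ⟨c, hc⟩ : ∃ c : P ⟶ TwC.const S Z, c = d ≫ eG.hom := ⟨_, rfl⟩
  have hdc : d = c ≫ eG.inv := by rw [hc, Category.assoc, Iso.hom_inv_id, Category.comp_id]
  obtain ⟨F, hF⟩ : ∃ F : Finset Z, ∀ p : P.left, ∃ m ∈ F,
      c.left p ∈ (Sigma.ι (fun _ : Z => S) m).opensRange := by
    have hcov : (Set.univ : Set P.left) ⊆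
        ⋃ m : Z, {p : P.left | c.left p ∈ (Sigma.ι (fun _ : Z => S) m).opensRange} := by
      intro p _
      obtain ⟨m, hm⟩ := exists_mem_range c p
      exact Set.mem_iUnion.mpr ⟨m, hm⟩
    obtain ⟨F, hF⟩ := isCompact_univ.elim_finite_subcover _
      (fun m => (c.left ⁻¹ᵁ (Sigma.ι (fun _ : Z => S) m).opensRange).isOpen) hcov
    refine ⟨F, fun p => ?_⟩
    obtain ⟨m, hm⟩ := Set.mem_iUnion.mp (hF (Set.mem_univ p))
    obtain ⟨hmF, hpm⟩ := Set.mem_iUnion.mp hm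
    exact ⟨m, hmF, hpm⟩
  have hd1 : ∀ (T : Over S), (1 : T ⟶ P) ≫ d = 1 := by
    intro T
    have := hd (1 : T ⟶ P) 1
    rw [_root_.mul_one] at this
    exact mul_eq_left.mp this.symm
  have hdpow : ∀ (T : Over S) (x : T ⟶ P) (n : ℕ), (x ^ n) ≫ d = (x ≫ d) ^ n := by
    intro T x n
    induction n with
    | zero => rw [pow_zero, pow_zero, hd1]
    | succ n ih => rw [pow_succ, pow_succ, hd, ih]
  have hpt : ∀ p : P.left, c.left p ∈ (Sigma.ι (fun _ : Z => S) 1).opensRange := by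
    intro p
    obtain ⟨T, x, t₀, hT, hx⟩ : ∃ (T : Over S) (x : T ⟶ P) (t₀ : T.left),
        (∀ t : T.left, t = t₀) ∧ x.left t₀ = p := by
      obtain ⟨t₀⟩ : Nonempty (Spec (P.left.residueField p)) := inferInstance
      have hss : Subsingleton (Spec (P.left.residueField p)) :=
        inferInstanceAs (Subsingleton (PrimeSpectrum (P.left.residueField p)))
      exact ⟨Over.mk (P.left.fromSpecResidueField p ≫ P.hom),
        Over.homMk (P.left.fromSpecResidueField p) rfl, t₀, fun t => hss.elim t t₀,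
        Scheme.fromSpecResidueField_apply _ _⟩
    obtain ⟨m, hm⟩ := eq_toUnit_pt_of_subsingleton (x ≫ c) t₀ hT
    have hxd : x ≫ d = toUnit T ≫ TwC.pt S Z m ≫ eG.inv := by
      rw [hdc, ← Category.assoc, hm, Category.assoc]
    have hpow : ∀ n : ℕ, (x ^ n) ≫ c = toUnit T ≫ TwC.pt S Z (m ^ n) := by
      intro n
      rw [hc, ← Category.assoc, hdpow, hxd, toUnit_pt_pow eG hG, Category.assoc, Category.assoc,
        Iso.inv_hom_id, Category.comp_id]
    have hmem : ∀ n : ℕ, m ^ n ∈ (F : Set Z) := by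
      intro n
      obtain ⟨m', hm'F, hm'⟩ := hF ((x ^ n).left t₀)
      have h1 : c.left ((x ^ n).left t₀) ∈ (Sigma.ι (fun _ : Z => S) (m ^ n)).opensRange := by
        have h2 := left_toUnit_pt_mem (T := T) (m ^ n) t₀
        rw [← hpow n, Over.comp_left, Scheme.Hom.comp_apply] at h2
        exact h2
      rw [mem_range_unique _ _ _ h1 hm']
      exact hm'F
    obtain ⟨a, b, hab, heq⟩ :=
      F.finite_toSet.exists_lt_map_eq_of_forall_mem (f := fun n : ℕ => m ^ n) hmem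
    change m ^ a = m ^ b at heq
    have h1 : m ^ (b - a) = 1 := by
      have h2 : m ^ b = m ^ a * m ^ (b - a) := by rw [← pow_add, Nat.add_sub_cancel' hab.le]
      rw [← heq] at h2
      exact mul_eq_left.mp h2.symm
    have hm1 : m = 1 :=
      hZ m (isOfFinOrder_iff_pow_eq_one.mpr ⟨b - a, Nat.sub_pos_of_lt hab, h1⟩)
    have h3 := left_toUnit_pt_mem (T := T) m t₀
    rw [← hm, hm1, Over.comp_left, Scheme.Hom.comp_apply, hx] at h3
    exact h3
  have hcc := comp_eq_toUnit_pt c 1 hpt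
  rw [hdc, hcc, Category.assoc, toUnit_pt_one eG hG]

end Const

section Ext

variable {S : Scheme.{u}} (K : Precoverage Scheme.{u}) [(QuotSh.J K S).Subcanonical]
  [K.IsStableUnderComposition] [K.IsStableUnderBaseChange] [K.HasPullbacks] [K.HasIsos]

/-- An endomorphism `φ` of the (commutative) middle term of an exact sequence `1 → G → E → P → 1`
compatible with `u` and `v` is of the form `x ↦ x · u(d(v(x)))` for a morphism `d : P ⟶ G`
multiplicative on points. -/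
theorem exists_hom_of_auto {P E G : Over S} [GrpObj P] [GrpObj E] [GrpObj G] [IsCommMonObj E]
    (u : G ⟶ E) (v : E ⟶ P) (hex : NonAbH1.IsExactSeq K u v)
    (φ : E ⟶ E) [IsMonHom φ] (hφu : u ≫ φ = u) (hφv : φ ≫ v = v) :
    ∃ d : P ⟶ G, (∀ ⦃T : Over S⦄ (x y : T ⟶ P), (x * y) ≫ d = (x ≫ d) * (y ≫ d)) ∧
      φ = 𝟙 E * (v ≫ d ≫ u) := by
  obtain ⟨hu, hv, huv, hpb, hloc⟩ := hex
  haveI := hu
  haveI := hv
  have hinj : ∀ ⦃T : Over S⦄ (a b : T ⟶ G), a ≫ u = b ≫ u → a = b := by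
    intro T a b hab
    have h1 : lift (1 : T ⟶ E) a = lift (1 : T ⟶ E) b := by
      apply hpb.hom_ext
      · rw [lift_fst, lift_fst]
      · rw [← Category.assoc, ← Category.assoc, lift_whiskerLeft, lift_whiskerLeft, hab]
    have := congrArg (fun z => z ≫ snd _ _) h1
    simpa only [lift_snd] using this
  obtain ⟨ℓ, hℓ1, hℓ2⟩ : ∃ ℓ : E ⟶ E ⊗ G, ℓ ≫ fst E G = 𝟙 E ∧ ℓ ≫ (E ◁ u) ≫ μ[E] = φ :=
    ⟨hpb.lift (𝟙 E) φ (by rw [Category.id_comp, hφv]), hpb.lift_fst _ _ _, hpb.lift_snd _ _ _⟩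
  obtain ⟨δ', hδ'⟩ : ∃ δ' : E ⟶ G, δ' = ℓ ≫ snd E G := ⟨_, rfl⟩
  have hℓ : ℓ = lift (𝟙 E) δ' := by
    apply CartesianMonoidalCategory.hom_ext
    · rw [lift_fst, hℓ1]
    · rw [lift_snd, hδ']
  have hφ : ∀ ⦃T : Over S⦄ (x : T ⟶ E), x ≫ φ = x * (x ≫ δ' ≫ u) := by
    intro T x
    have e : x ≫ lift (𝟙 E) δ' ≫ (E ◁ u) ≫ μ[E] = lift x (x ≫ δ' ≫ u) ≫ μ[E] := by
      rw [← Category.assoc, ← Category.assoc, comp_lift, Category.comp_id, lift_whiskerLeft,
        Category.assoc]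
    rw [← hℓ2, hℓ, e, Hom.mul_def]
  have hfib : ∀ ⦃T : Over S⦄ (x y : T ⟶ E), x ≫ v = y ≫ v → x ≫ δ' = y ≫ δ' := by
    intro T x y hxy
    obtain ⟨m, hm1, hm2⟩ : ∃ m : T ⟶ E ⊗ G, m ≫ fst E G = x ∧ m ≫ (E ◁ u) ≫ μ[E] = y :=
      ⟨hpb.lift x y hxy, hpb.lift_fst _ _ _, hpb.lift_snd _ _ _⟩
    obtain ⟨g, hg⟩ : ∃ g : T ⟶ G, g = m ≫ snd E G := ⟨_, rfl⟩
    have hm : m = lift x g := by
      apply CartesianMonoidalCategory.hom_ext
      · rw [lift_fst, hm1]
      · rw [lift_snd, hg]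
    have hy : y = x * (g ≫ u) := by
      rw [← hm2, hm, ← Category.assoc, lift_whiskerLeft, Hom.mul_def]
    have h1 : y ≫ φ = (x ≫ φ) * (g ≫ u) := by
      rw [hy, MonObj.mul_comp _ _ φ, Category.assoc, hφu]
    rw [hφ y, hφ x] at h1
    have h2 : y * (y ≫ δ' ≫ u) = x * (g ≫ u) * (y ≫ δ' ≫ u) := by rw [← hy]
    have h3 : x * (g ≫ u) * (y ≫ δ' ≫ u) = x * (g ≫ u) * (x ≫ δ' ≫ u) := by
      rw [← h2, h1, mul_right_comm]
    have h4 : y ≫ δ' ≫ u = x ≫ δ' ≫ u := mul_left_cancel h3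
    exact hinj (x ≫ δ') (y ≫ δ') (by rw [Category.assoc, Category.assoc, h4])
  have hq : liftSv v (𝟙 P) ∈ QuotSh.J K S P := by
    obtain ⟨R₀, hR₀, hsec⟩ := hloc
    rw [GrothendieckTopology.mem_over_iff,
      Precoverage.mem_toGrothendieck_iff_of_isStableUnderComposition]
    refine ⟨R₀, hR₀, ?_⟩
    intro S' f hf
    rw [Sieve.overEquiv_iff]
    obtain ⟨s, hs⟩ := hsec f hf
    have hs' : s ≫ v.left = f := hs
    have hsE : s ≫ E.hom = f ≫ P.hom := by rw [← Over.w v, ← Category.assoc, hs']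
    refine ⟨(Over.homMk s hsE : Over.mk (f ≫ P.hom) ⟶ E), ?_⟩
    apply Over.OverMorphism.ext
    change s ≫ v.left = f ≫ 𝟙 _
    rw [hs', Category.comp_id]
  obtain ⟨d, hd⟩ := exists_desc K v hq δ' hfib
  have hδmul : ∀ ⦃T : Over S⦄ (x y : T ⟶ E), (x * y) ≫ δ' = (x ≫ δ') * (y ≫ δ') := by
    intro T x y
    apply hinj
    have h1 : (x * y) ≫ φ = (x ≫ φ) * (y ≫ φ) := MonObj.mul_comp _ _ φ
    rw [hφ, hφ x, hφ y] at h1
    rw [MonObj.mul_comp _ _ u, Category.assoc, Category.assoc, Category.assoc]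
    have h2 : x * (x ≫ δ' ≫ u) * (y * (y ≫ δ' ≫ u)) =
        (x * y) * ((x ≫ δ' ≫ u) * (y ≫ δ' ≫ u)) := mul_mul_mul_comm _ _ _ _
    rw [h2] at h1
    exact mul_left_cancel h1
  refine ⟨d, ?_, ?_⟩
  · intro T x y
    refine hom_ext_of_mem K (liftSv v x ⊓ liftSv v y)
      ((QuotSh.J K S).intersection_covering (liftSv_mem_of_id K v hq x)
        (liftSv_mem_of_id K v hq y)) _ _ ?_
    rintro T' f ⟨⟨x', hx'⟩, ⟨y', hy'⟩⟩
    have e1 : f ≫ x ≫ d = x' ≫ δ' := by rw [← Category.assoc, ← hx', Category.assoc, hd]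
    have e2 : f ≫ y ≫ d = y' ≫ δ' := by rw [← Category.assoc, ← hy', Category.assoc, hd]
    have e3 : f ≫ (x * y) ≫ d = (x' * y') ≫ δ' := by
      rw [← Category.assoc, MonObj.comp_mul, ← hx', ← hy', ← MonObj.mul_comp _ _ v,
        Category.assoc, hd]
    rw [MonObj.comp_mul, e1, e2, e3, hδmul]
  · have := hφ (𝟙 E)
    rw [Category.id_comp, Category.id_comp, ← hd] at this
    exact this

end Ext

end Groth.Agent.H8.ConstRig
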